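import Groth.Agent.Lib.FlatCx.RankExact
import Mathlib.RingTheory.Spectrum.Prime.FreeLocus
import Mathlib.RingTheory.Finiteness.Projective

/-!
# Locally constant ranks of linear maps over reduced rings
-/

universe u v

open scoped TensorProduct
open Module

noncomputable section

namespace Groth.Agent.FibRankH1

variable {R : Type u} [CommRing R]

/-- fibre rank -/
def fr (M : Type v) [AddCommGroup M] [Module R M] (x : PrimeSpectrum R) : ℕ :=
  finrank x.asIdeal.ResidueField (x.asIdeal.ResidueField ⊗[R] M)

theorem usc (M : Type v) [AddCommGroup M] [Module R M] [Module.Finite R M] (x : PrimeSpectrum R) :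
    ∀ᶠ y in nhds x, fr M y ≤ fr M x := by
  refine Filter.eventually_of_mem
    ((PrimeSpectrum.isClosed_zeroLocus (Fitt.ideal R M (fr M x) : Set R)).isOpen_compl.mem_nhds ?_) ?_
  · exact (Groth.Agent.FittingLib.not_le_iff_finrank_fiber_le (fr M x) x.asIdeal).2 le_rfl
  · exact fun y hy => (Groth.Agent.FittingLib.not_le_iff_finrank_fiber_le (fr M x) y.asIdeal).1 hy

theorem fr_quotient_range_add {M N : Type v} [AddCommGroup M] [Module R M] [AddCommGroup N] [Module R N]
    [Module.Finite R N] (f : M →ₗ[R] N) (x : PrimeSpectrum R) :
    fr (N ⧸ LinearMap.range f) x +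
      finrank x.asIdeal.ResidueField (LinearMap.range (f.baseChange x.asIdeal.ResidueField)) =
      fr N x := by
  let K := x.asIdeal.ResidueField
  let g : K ⊗[R] N →ₗ[K] K ⊗[R] (N ⧸ LinearMap.range f) := (LinearMap.range f).mkQ.baseChange K
  have hex : Function.Exact (f.baseChange K) g := by
    intro y
    simp only [g, LinearMap.baseChange_eq_ltensor]
    exact lTensor_exact (R := R) K (LinearMap.exact_map_mkQ_range f) (Submodule.mkQ_surjective _) y
  have hg : Function.Surjective g := by
    intro y
    obtain ⟨z, hz⟩ := LinearMap.lTensor_surjective K (Submodule.mkQ_surjective (LinearMap.range f)) y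
    exact ⟨z, by simpa [g, LinearMap.baseChange_eq_ltensor] using hz⟩
  have h := LinearMap.finrank_range_add_finrank_ker g
  rw [LinearMap.range_eq_top.2 hg, finrank_top, hex.linearMap_ker_eq] at h
  exact h

theorem projective_of_eventually [IsReduced R] (M : Type v) [AddCommGroup M] [Module R M]
    [Module.Finite R M] (h : ∀ x : PrimeSpectrum R, ∀ᶠ y in nhds x, fr M y = fr M x) :
    Module.Projective R M := by
  obtain ⟨n, q, hq⟩ := Module.Finite.exists_fin' R M
  let e : ((Fin n → R) ⧸ LinearMap.ker q) ≃ₗ[R] M := q.quotKerEquivOfSurjective hq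
  have he : ∀ y, FlatCxLib.fibRank ((Fin n → R) ⧸ LinearMap.ker q) y = fr M y := fun y =>
    (e.baseChange R y.asIdeal.ResidueField _ _).finrank_eq
  haveI := FlatCxLib.projective_of_fibRank_eventually (R := R) (M := (Fin n → R) ⧸ LinearMap.ker q)
    fun m _ => (h ⟨m, inferInstance⟩).mono fun y hy => (he y).trans (hy.trans (he _).symm)
  exact Module.Projective.of_equiv e

theorem fr_eventually_eq (M : Type v) [AddCommGroup M] [Module R M] [Module.Finite R M]
    [Module.Projective R M] (x : PrimeSpectrum R) : ∀ᶠ y in nhds x, fr M y = fr M x := by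
  haveI := Module.finitePresentation_of_projective R M
  filter_upwards [(Module.isLocallyConstant_rankAtStalk (R := R) (M := M)).eventually_eq x] with y hy
  exact (Module.rankAtStalk_eq y).symm.trans (hy.trans (Module.rankAtStalk_eq x))

/-- A surjection onto a projective has projective kernel if the source is projective. -/
theorem projective_ker {A B : Type v} [AddCommGroup A] [Module R A] [AddCommGroup B] [Module R B]
    [Module.Projective R A] [Module.Projective R B] (π : A →ₗ[R] B) (hπ : Function.Surjective π) :
    Module.Projective R (LinearMap.ker π) ∧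
      ∃ r : A →ₗ[R] LinearMap.ker π, ∀ z : LinearMap.ker π, r z = z := by
  obtain ⟨s, hs⟩ := Module.projective_lifting_property π LinearMap.id hπ
  have hs' : ∀ b, π (s b) = b := LinearMap.congr_fun hs
  let r : A →ₗ[R] LinearMap.ker π := (LinearMap.id - s ∘ₗ π).codRestrict _ fun a => by simp [hs']
  have hr : ∀ z : LinearMap.ker π, r z = z := fun z => Subtype.ext (by simp [r, LinearMap.mem_ker.1 z.2])
  exact ⟨Module.Projective.of_split (LinearMap.ker π).subtype r (LinearMap.ext hr), r, hr⟩

theorem projective_range {A B : Type v} [AddCommGroup A] [Module R A] [AddCommGroup B] [Module R B]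
    [Module.Projective R B] (f : A →ₗ[R] B) [Module.Projective R (B ⧸ LinearMap.range f)] :
    Module.Projective R (LinearMap.range f) ∧
      ∃ r : B →ₗ[R] LinearMap.range f, ∀ z : LinearMap.range f, r z = z := by
  have h := projective_ker (LinearMap.range f).mkQ (Submodule.mkQ_surjective _)
  rwa [Submodule.ker_mkQ] at h

section Complex

variable {A B C : Type v} [AddCommGroup A] [Module R A] [AddCommGroup B] [Module R B]
  [AddCommGroup C] [Module R C] (f : A →ₗ[R] B) (g : B →ₗ[R] C)

theorem homology_projective [IsReduced R] [Module.Finite R B] [Module.Finite R C]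
    [Module.Projective R B] [Module.Projective R C] (hgf : g ∘ₗ f = 0)
    (h : IsLocallyConstant fun x : PrimeSpectrum R =>
      finrank x.asIdeal.ResidueField (LinearMap.ker (g.baseChange x.asIdeal.ResidueField)) -
        finrank x.asIdeal.ResidueField (LinearMap.range (f.baseChange x.asIdeal.ResidueField))) :
    let π := (LinearMap.range f).liftQ g (LinearMap.range_le_ker_iff.2 hgf)
    Module.Finite R (LinearMap.ker π) ∧ Module.Projective R (LinearMap.ker π) := by
  intro π
  have key : ∀ x : PrimeSpectrum R,
      (finrank x.asIdeal.ResidueField (LinearMap.ker (g.baseChange x.asIdeal.ResidueField)) -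
        finrank x.asIdeal.ResidueField (LinearMap.range (f.baseChange x.asIdeal.ResidueField))) + fr C x =
        fr (B ⧸ LinearMap.range f) x + fr (C ⧸ LinearMap.range g) x := fun x => by
    have h1 := fr_quotient_range_add f x
    have h2 := fr_quotient_range_add g x
    have h3 := LinearMap.finrank_range_add_finrank_ker (g.baseChange x.asIdeal.ResidueField)
    have h4 : finrank x.asIdeal.ResidueField (LinearMap.range (f.baseChange x.asIdeal.ResidueField)) ≤
        finrank x.asIdeal.ResidueField (LinearMap.ker (g.baseChange x.asIdeal.ResidueField)) :=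
      Submodule.finrank_mono (LinearMap.range_le_ker_iff.2 (by
        rw [← LinearMap.baseChange_comp, hgf, LinearMap.baseChange_zero]))
    unfold fr at h1 h2 ⊢
    omega
  have e : ∀ x : PrimeSpectrum R, ∀ᶠ y in nhds x,
      fr (B ⧸ LinearMap.range f) y = fr (B ⧸ LinearMap.range f) x ∧
        fr (C ⧸ LinearMap.range g) y = fr (C ⧸ LinearMap.range g) x := fun x => by
    filter_upwards [h.eventually_eq x, fr_eventually_eq C x, usc (B ⧸ LinearMap.range f) x,
      usc (C ⧸ LinearMap.range g) x] with y h0 h1 h2 h3
    have := key x
    have := key y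
    omega
  haveI := projective_of_eventually (B ⧸ LinearMap.range f) fun x => (e x).mono fun y hy => hy.1
  haveI := projective_of_eventually (C ⧸ LinearMap.range g) fun x => (e x).mono fun y hy => hy.2
  haveI := (projective_range g).1
  have hle : ∀ z, π z ∈ LinearMap.range g := fun z => by
    obtain ⟨b, rfl⟩ := Submodule.mkQ_surjective _ z
    exact ⟨b, rfl⟩
  let π' : (B ⧸ LinearMap.range f) →ₗ[R] LinearMap.range g := π.codRestrict _ hle
  have hπ' : Function.Surjective π' := by
    rintro ⟨_, b, rfl⟩
    exact ⟨Submodule.Quotient.mk b, rfl⟩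
  have hk : LinearMap.ker π' = LinearMap.ker π := LinearMap.ker_codRestrict _ π _
  obtain ⟨hp, r, hr⟩ := projective_ker π' hπ'
  haveI : Module.Finite R (LinearMap.ker π') :=
    Module.Finite.of_surjective r fun z => ⟨z, hr z⟩
  rw [← hk]
  exact ⟨inferInstance, hp⟩

end Complex

end Groth.Agent.FibRankH1
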